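import Mathlib
import Groth.Agent.RegSeqSlice.Scheme
import Groth.Agent.RegSeqSlice.Flat
import Groth.Agent.CMFlatLib.Fibre
import Groth.Agent.RelDivLib.QuasiFlat
import Groth.Agent.QRegLib.Basic
import Groth.Agent.CMGraded.Glue
import Groth.Agent.S9272

/-!
# Quotients by lifts of quasi-regular sequences along locally nilpotent ideals
-/

set_option autoImplicit false
set_option linter.unusedSectionVars false

noncomputable section

universe u

open scoped TensorProduct

namespace Groth.Agent.NilpQuotLib

/-- Quasi-regularity is invariant under isomorphisms. -/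
theorem isQuasiRegular_ringEquiv {R S : Type u} [CommRing R] [CommRing S] (e : R ≃+* S) {n : ℕ} {f : Fin n → R}
    (hf : CAlgX.IsQuasiRegular f) : CAlgX.IsQuasiRegular fun i => e (f i) := by
  intro d P hP hv m
  have hspan : (Ideal.span (Set.range fun i => e (f i))).map e.symm.toRingHom = Ideal.span (Set.range f) := by
    rw [Ideal.map_span, ← Set.range_comp]
    congr 2
    funext i
    simp
  have h1 : MvPolynomial.eval f (MvPolynomial.map e.symm.toRingHom P) =
      e.symm.toRingHom (MvPolynomial.eval (fun i => e (f i)) P) := by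
    rw [MvPolynomial.eval_map, MvPolynomial.eval₂_comp]
    congr 1
    funext i
    simp
  have h2 := hf d (MvPolynomial.map e.symm.toRingHom P) (hP.map _) (by
    rw [h1, ← hspan, ← Ideal.map_pow]; exact Ideal.mem_map_of_mem _ hv) m
  rw [MvPolynomial.coeff_map, ← hspan] at h2
  have h3 := Ideal.mem_map_of_mem e.toRingHom h2
  rw [Ideal.map_map, show e.toRingHom.comp e.symm.toRingHom = RingHom.id S from RingHom.ext fun x => e.apply_symm_apply x,
    Ideal.map_id] at h3
  simpa using h3

/-- The local ring of the fibre is the quotient of the local ring. -/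
theorem exists_quotLocal_equiv_mk {A B : Type u} [CommRing A] [CommRing B] [Algebra A B] (p : Ideal A) [p.IsPrime] (q : Ideal B) [q.IsPrime] [q.LiesOver p]
    (Q : Ideal (p.Fiber B)) [Q.IsPrime]
    (hQ : Q.comap (Algebra.TensorProduct.includeRight : B →ₐ[A] p.Fiber B).toRingHom = q) :
    ∃ e : Localization.AtPrime q ⧸ p.map (algebraMap A (Localization.AtPrime q)) ≃+* Localization.AtPrime Q,
      ∀ b : B, e (Ideal.Quotient.mk (p.map (algebraMap A (Localization.AtPrime q))) (algebraMap B (Localization.AtPrime q) b)) =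
        algebraMap (p.Fiber B) (Localization.AtPrime Q) ((1 : p.ResidueField) ⊗ₜ[A] b) := by
  let ι : B →+* p.Fiber B := (Algebra.TensorProduct.includeRight : B →ₐ[A] p.Fiber B).toRingHom
  let φ := Localization.localRingHom q Q ι hQ.symm
  have hone : ∀ a : A, ι (algebraMap A B a) = algebraMap A (p.Fiber B) a := fun a =>
    (Algebra.TensorProduct.includeRight : B →ₐ[A] p.Fiber B).commutes a
  have hunit : ∀ r ∉ p, IsUnit (algebraMap A (p.Fiber B) r) := fun r hr => by
    rw [IsScalarTower.algebraMap_apply A p.ResidueField (p.Fiber B)]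
    exact (Ne.isUnit (fun h => hr (Ideal.algebraMap_residueField_eq_zero.1 h))).map _
  have hnotq : ∀ r ∉ p, algebraMap A B r ∉ q := fun r hr h => hr ((q.over_def p).ge h)
  have hclear : ∀ z : p.Fiber B, ∃ r ∉ p, ∃ b : B, ι (algebraMap A B r) * z = ι b := fun z => by
    obtain ⟨r, hr, b, e⟩ := Ideal.Fiber.exists_smul_eq_one_tmul p z
    refine ⟨r, hr, b, ?_⟩
    rw [hone, ← Algebra.smul_def, e]
    rfl
  have hmemQ : ∀ b : B, ι b ∈ Q ↔ b ∈ q := fun b => by rw [← hQ]; rfl
  have hsurj : Function.Surjective φ := fun z => by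
    obtain ⟨x, ⟨s, hs⟩, rfl⟩ := IsLocalization.exists_mk'_eq Q.primeCompl z
    obtain ⟨r, hr, b, hb⟩ := hclear x
    obtain ⟨r', hr', b', hb'⟩ := hclear s
    have hb'q : b' ∉ q := fun h => by
      have h1 : ι (algebraMap A B r') * s ∈ Q := hb' ▸ (hmemQ b').2 h
      rcases Ideal.IsPrime.mem_or_mem inferInstance h1 with h2 | h2
      · exact hnotq r' hr' ((hmemQ _).1 h2)
      · exact hs h2
    refine ⟨IsLocalization.mk' _ (b * algebraMap A B r') (⟨b' * algebraMap A B r, fun h =>
      ((inferInstance : q.IsPrime).mem_or_mem h).elim hb'q (hnotq r hr)⟩ : q.primeCompl), ?_⟩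
    rw [Localization.localRingHom_mk']
    refine IsLocalization.mk'_eq_of_eq ?_
    show ι (b' * algebraMap A B r) * x = s * ι (b * algebraMap A B r')
    rw [map_mul, map_mul, ← hb, ← hb']
    ring
  have hker : RingHom.ker φ = p.map (algebraMap A (Localization.AtPrime q)) := by
    rw [IsScalarTower.algebraMap_eq A B (Localization.AtPrime q), ← Ideal.map_map]
    refine le_antisymm (fun z hz => ?_) (Ideal.map_le_iff_le_comap.2 (Ideal.map_le_iff_le_comap.2 fun a ha => ?_))
    · obtain ⟨b, ⟨s, hs⟩, rfl⟩ := IsLocalization.exists_mk'_eq q.primeCompl z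
      rw [RingHom.mem_ker, Localization.localRingHom_mk', IsLocalization.mk'_eq_zero_iff] at hz
      obtain ⟨⟨u, hu⟩, hu0⟩ := hz
      obtain ⟨r, hr, b', hb'⟩ := hclear u
      have hb'q : b' ∉ q := fun h => by
        have h1 : ι (algebraMap A B r) * u ∈ Q := hb' ▸ (hmemQ b').2 h
        rcases Ideal.IsPrime.mem_or_mem inferInstance h1 with h2 | h2
        · exact hnotq r hr ((hmemQ _).1 h2)
        · exact hu h2
      have h0 : ι (b' * b) = 0 := by rw [map_mul, ← hb', mul_assoc, hu0, mul_zero]
      obtain ⟨r', hr', hmem⟩ := QFCoverLib.exists_mul_mem_of_tmul_eq_zero p (z := b' * b) h0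
      rw [IsLocalization.mk'_mem_map_algebraMap_iff]
      exact ⟨algebraMap A B r' * b', fun h => ((inferInstance : q.IsPrime).mem_or_mem h).elim (hnotq r' hr') hb'q,
        by rw [mul_assoc]; exact hmem⟩
    · show φ (algebraMap B (Localization.AtPrime q) (algebraMap A B a)) = 0
      rw [Localization.localRingHom_to_map, hone, IsScalarTower.algebraMap_apply A p.ResidueField (p.Fiber B),
        Ideal.algebraMap_residueField_eq_zero.2 ha, map_zero, map_zero]
  refine ⟨(Ideal.quotEquivOfEq hker.symm).trans (RingHom.quotientKerEquivOfSurjective hsurj), fun b => ?_⟩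
  rw [RingEquiv.trans_apply, Ideal.quotEquivOfEq_mk, RingHom.quotientKerEquivOfSurjective_apply_mk]
  exact Localization.localRingHom_to_map _ _ _ _ _

variable {A' B' : Type u} [CommRing A'] [CommRing B'] [Algebra A' B']

/-- Base change from the reduction computes base change. -/
def reduceTensor (I : Ideal A') (K : Type u) [CommRing K] [Algebra A' K] [Algebra (A' ⧸ I) K]
    [IsScalarTower A' (A' ⧸ I) K] :
    K ⊗[A' ⧸ I] (B' ⧸ I.map (algebraMap A' B')) ≃ₐ[K] K ⊗[A'] B' :=
  (Algebra.TensorProduct.congr (AlgEquiv.refl : K ≃ₐ[K] K)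
    (Algebra.TensorProduct.quotIdealMapEquivQuotTensor B' I)).trans
    (Algebra.TensorProduct.cancelBaseChange A' (A' ⧸ I) K K B')

theorem reduceTensor_tmul (I : Ideal A') (K : Type u) [CommRing K] [Algebra A' K] [Algebra (A' ⧸ I) K]
    [IsScalarTower A' (A' ⧸ I) K] (b : B') :
    reduceTensor I K ((1 : K) ⊗ₜ Ideal.Quotient.mk (I.map (algebraMap A' B')) b) = (1 : K) ⊗ₜ b := by
  simp [reduceTensor]

variable [Algebra.FinitePresentation A' B'] [Module.Flat A' B']

/-- The sequence is quasi-regular in every fibre. -/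
theorem isQuasiRegular_fibre (I : Ideal A') (hI : ∀ x ∈ I, IsNilpotent x) {r : ℕ} (f' : Fin r → B')
    (hq : CAlgX.IsQuasiRegular (fun i => Ideal.Quotient.mk (I.map (algebraMap A' B')) (f' i)))
    (hflat : Module.Flat (A' ⧸ I)
      ((B' ⧸ I.map (algebraMap A' B')) ⧸
        Ideal.span (Set.range (fun i => Ideal.Quotient.mk (I.map (algebraMap A' B')) (f' i)))))
    (p : Ideal A') [p.IsPrime] :
    CAlgX.IsQuasiRegular fun i => (1 : p.ResidueField) ⊗ₜ[A'] f' i := by
  letI : Algebra (A' ⧸ I) p.ResidueField :=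
    (Ideal.Quotient.lift I (algebraMap A' p.ResidueField) fun x hx =>
      IsNilpotent.eq_zero ((hI x hx).map (algebraMap A' p.ResidueField))).toAlgebra
  haveI : IsScalarTower A' (A' ⧸ I) p.ResidueField := .of_algebraMap_eq fun x => rfl
  have h := Groth.Agent.S9272.result (A' ⧸ I) (B' ⧸ I.map (algebraMap A' B')) p.ResidueField r _ hflat hq
  have h2 := isQuasiRegular_ringEquiv (reduceTensor (B' := B') I p.ResidueField).toRingEquiv h
  convert h2 using 1
  funext i
  exact (reduceTensor_tmul I p.ResidueField (f' i)).symm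

/-- Flatness of the quotient by lifts. -/
theorem flat_quot (I : Ideal A') (hI : ∀ x ∈ I, IsNilpotent x) {r : ℕ} (f' : Fin r → B')
    (hq : CAlgX.IsQuasiRegular (fun i => Ideal.Quotient.mk (I.map (algebraMap A' B')) (f' i)))
    (hflat : Module.Flat (A' ⧸ I)
      ((B' ⧸ I.map (algebraMap A' B')) ⧸
        Ideal.span (Set.range (fun i => Ideal.Quotient.mk (I.map (algebraMap A' B')) (f' i))))) :
    Module.Flat A' (B' ⧸ Ideal.span (Set.range f')) := by
  let J := Ideal.span (Set.range f')
  let C := B' ⧸ J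
  refine Module.flat_of_isLocalized_maximal (R := A') (S := C) (M := C) (fun P _ => Localization.AtPrime P)
    (fun P _ => Algebra.linearMap C _) fun P hP => ?_
  let mkJ : B' →+* C := Ideal.Quotient.mk J
  let q : Ideal B' := P.comap mkJ
  haveI : q.IsPrime := Ideal.IsPrime.comap _
  have hfq : ∀ i, f' i ∈ q := fun i => by
    show mkJ (f' i) ∈ P
    rw [show mkJ (f' i) = 0 from Ideal.Quotient.eq_zero_iff_mem.2 (Ideal.subset_span ⟨i, rfl⟩)]
    exact zero_mem _
  let p : Ideal A' := q.under A'
  haveI : q.LiesOver p := ⟨rfl⟩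
  letI : Algebra (MvPolynomial (Fin r) A') B' := (MvPolynomial.aeval f').toRingHom.toAlgebra
  haveI : IsScalarTower A' (MvPolynomial (Fin r) A') B' :=
    .of_algebraMap_eq fun a => ((MvPolynomial.aeval f').commutes a).symm
  have hX : ∀ i, algebraMap (MvPolynomial (Fin r) A') B' (MvPolynomial.X i) = f' i := fun i => MvPolynomial.aeval_X f' i
  let L := Localization.AtPrime q
  haveI : Module.Flat A' L := Module.Flat.trans A' B' L
  obtain ⟨Q, hQ⟩ : ∃ Q : PrimeSpectrum (p.Fiber B'),
      Q.asIdeal.comap (Algebra.TensorProduct.includeRight : B' →ₐ[A'] p.Fiber B').toRingHom = q :=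
    ⟨PrimeSpectrum.preimageEquivFiber A' B' ⟨p, inferInstance⟩ ⟨⟨q, inferInstance⟩, PrimeSpectrum.ext (q.over_def p).symm⟩,
      congrArg (fun z => z.1.asIdeal) ((PrimeSpectrum.preimageEquivFiber A' B' ⟨p, inferInstance⟩).symm_apply_apply
        ⟨⟨q, inferInstance⟩, PrimeSpectrum.ext (q.over_def p).symm⟩)⟩
  obtain ⟨e, he⟩ := exists_quotLocal_equiv_mk p q Q.asIdeal hQ
  let O := L ⧸ p.map (algebraMap A' L)
  haveI : IsNoetherianRing (p.Fiber B') := Algebra.FiniteType.isNoetherianRing p.ResidueField _
  haveI : IsNoetherianRing (Localization.AtPrime Q.asIdeal) :=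
    IsLocalization.isNoetherianRing Q.asIdeal.primeCompl _ inferInstance
  haveI : IsNoetherianRing O := isNoetherianRing_of_ringEquiv _ e.symm
  haveI : IsLocalRing O := e.symm.isLocalRing
  let g : Fin r → O := fun i => algebraMap B' O (f' i)
  have hg : CAlgX.IsQuasiRegular g := by
    have h1 : CAlgX.IsQuasiRegular fun i => algebraMap (p.Fiber B') (Localization.AtPrime Q.asIdeal)
        ((1 : p.ResidueField) ⊗ₜ[A'] f' i) :=
      RelDivLib.isQuasiRegular_map Q.asIdeal.primeCompl (isQuasiRegular_fibre I hI f' hq hflat p)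
    have h2 := isQuasiRegular_ringEquiv e.symm h1
    convert h2 using 1
    funext i
    rw [eq_comm, RingEquiv.symm_apply_eq]
    exact (he (f' i)).symm
  have hmem : Ideal.span (Set.range g) ≤ Ideal.jacobson ⊥ := by
    rw [IsLocalRing.jacobson_eq_maximalIdeal ⊥ bot_ne_top, Ideal.span_le]
    rintro _ ⟨i, rfl⟩ hu
    haveI := IsLocalHom.of_surjective (Ideal.Quotient.mk (p.map (algebraMap A' L))) Ideal.Quotient.mk_surjective
    exact (IsLocalization.AtPrime.isUnit_to_map_iff L q (f' i)).1
      ((isUnit_map_iff (Ideal.Quotient.mk (p.map (algebraMap A' L))) _).1 hu) (hfq i)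
  haveI hT : Module.Flat (MvPolynomial (Fin r) A') L :=
    RegSeqSlice.flat_poly_of_fibre_regular p q (fun i => by rw [hX]; exact hfq i) (by
      have h := QRegLib.isWeaklyRegular_of_isQuasiRegular g hmem hg
      simp only [hX]
      exact h)
  have hCL : Module.Flat A' (L ⧸ J.map (algebraMap B' L)) := by
    refine RegSeqSlice.flat_quot (n := r) (J.map (algebraMap B' L)) ?_
    rw [Ideal.map_span, Ideal.ofList, ← Set.range_comp]
    congr 1
    ext z
    simp only [Set.mem_range, Set.mem_setOf_eq, List.mem_ofFn, Function.comp_apply]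
    refine exists_congr fun i => ?_
    rw [IsScalarTower.algebraMap_apply (MvPolynomial (Fin r) A') B' L, hX]
  let π : L →ₐ[A'] Localization.AtPrime P :=
    { toRingHom := Localization.localRingHom q P mkJ rfl
      commutes' := fun a => by
        show Localization.localRingHom q P mkJ rfl _ = _
        rw [IsScalarTower.algebraMap_apply A' B' L, Localization.localRingHom_to_map,
          IsScalarTower.algebraMap_apply A' C (Localization.AtPrime P)]
        rfl }
  have hker : RingHom.ker π.toRingHom = J.map (algebraMap B' L) := by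
    rw [show π.toRingHom = Localization.localRingHom q P mkJ rfl from rfl,
      CMGraded.ker_localRingHom Ideal.Quotient.mk_surjective q P rfl, Ideal.mk_ker]
  exact Module.Flat.of_linearEquiv ((Ideal.quotientEquivAlgOfEq A' hker.symm).trans
    (Ideal.quotientKerAlgEquivOfSurjective (f := π)
      (CMGraded.localRingHom_surjective Ideal.Quotient.mk_surjective q P rfl))).toLinearEquiv.symm

end Groth.Agent.NilpQuotLib

namespace Groth.Agent.NilpQuotLib

variable {A' B' : Type u} [CommRing A'] [CommRing B'] [Algebra A' B'] [Algebra.FinitePresentation A' B'] [Module.Flat A' B']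

/-- Smoothness of the quotient by lifts. -/
theorem smooth_quot (I : Ideal A') (hI : ∀ x ∈ I, IsNilpotent x) {r : ℕ} (f' : Fin r → B')
    (hq : CAlgX.IsQuasiRegular (fun i => Ideal.Quotient.mk (I.map (algebraMap A' B')) (f' i)))
    (hsm : Algebra.Smooth (A' ⧸ I)
      ((B' ⧸ I.map (algebraMap A' B')) ⧸
        Ideal.span (Set.range (fun i => Ideal.Quotient.mk (I.map (algebraMap A' B')) (f' i))))) :
    Algebra.Smooth A' (B' ⧸ Ideal.span (Set.range f')) := by
  let J := Ideal.span (Set.range f')
  let IB := I.map (algebraMap A' B')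
  let C := B' ⧸ J
  haveI hflat : Module.Flat A' C := flat_quot I hI f' hq inferInstance
  haveI : Algebra.FinitePresentation A' C := .quotient (Submodule.fg_span (Set.finite_range f'))
  have hJ : Ideal.span (Set.range fun i => Ideal.Quotient.mk IB (f' i)) = J.map (Ideal.Quotient.mk IB) := by
    rw [Ideal.map_span, ← Set.range_comp]
    rfl
  have hI' : I.map (algebraMap A' C) = IB.map (Ideal.Quotient.mk J) := by
    rw [Ideal.map_map]
    rfl
  let e : ((B' ⧸ IB) ⧸ Ideal.span (Set.range fun i => Ideal.Quotient.mk IB (f' i))) ≃ₐ[A'] C ⧸ I.map (algebraMap A' C) :=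
    (Ideal.quotientEquivAlgOfEq A' hJ).trans ((DoubleQuot.quotQuotEquivQuotSupₐ A' IB J).trans
      ((Ideal.quotientEquivAlgOfEq A' (sup_comm IB J)).trans
        ((DoubleQuot.quotQuotEquivQuotSupₐ A' J IB).symm.trans (Ideal.quotientEquivAlgOfEq A' hI'.symm))))
  let eA : ((B' ⧸ IB) ⧸ Ideal.span (Set.range fun i => Ideal.Quotient.mk IB (f' i))) ≃ₐ[A' ⧸ I] C ⧸ I.map (algebraMap A' C) :=
    AlgEquiv.ofRingEquiv (f := e.toRingEquiv) fun a => by
      obtain ⟨a, rfl⟩ := Ideal.Quotient.mk_surjective a
      exact e.commutes a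
  haveI : Algebra.FormallySmooth (A' ⧸ I) (C ⧸ I.map (algebraMap A' C)) := Algebra.FormallySmooth.of_equiv eA
  refine Algebra.Smooth.of_formallySmooth_fiber fun p _ => ?_
  letI : Algebra (A' ⧸ I) p.ResidueField :=
    (Ideal.Quotient.lift I (algebraMap A' p.ResidueField) fun x hx =>
      IsNilpotent.eq_zero ((hI x hx).map (algebraMap A' p.ResidueField))).toAlgebra
  haveI : IsScalarTower A' (A' ⧸ I) p.ResidueField := .of_algebraMap_eq fun x => rfl
  exact Algebra.FormallySmooth.of_equiv (reduceTensor (B' := C) I p.ResidueField)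

end Groth.Agent.NilpQuotLib
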